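import Cfsg.Agent.Cores.GlaubermanZStar
import Cfsg.Agent.H26.Invol
import Cfsg.Agent.H65.Invol
import Cfsg.Agent.PGroups.Taussky
import Cfsg.Agent.Thompson.BaerSuzuki

/-!
Groups in which every noncyclic subgroup contains its centraliser.
-/

set_option autoImplicit false
set_option linter.unusedSectionVars false
set_option linter.style.haveILetI false

namespace Cfsg.Agent.H65.SelfCent

open Subgroup

universe u

variable {G : Type u} [Group G] [Finite G]

/-- Every noncyclic subgroup contains its centraliser. -/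
def P (G : Type u) [Group G] : Prop :=
  ∀ H : Subgroup G, ¬ IsCyclic ↥H → Subgroup.centralizer (H : Set G) ≤ H

theorem P.mem_of_commute (hP : P G) {H : Subgroup G} (hH : ¬ IsCyclic ↥H) {g : G}
    (hg : ∀ h ∈ H, Commute h g) : g ∈ H :=
  hP H hH (Subgroup.mem_centralizer_iff.mpr fun h hh => (hg h hh).eq)

theorem not_isCyclic_of_invols {H : Subgroup G} {a b : G} (ha : a ∈ H) (hb : b ∈ H)
    (ha2 : orderOf a = 2) (hb2 : orderOf b = 2) (hab : a ≠ b) : ¬ IsCyclic ↥H := fun h =>
  hab (PGroups.eq_of_sq_eq_one h ha hb (by rw [pow_two]; exact mul_self_eq_one ha2)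
    (by rw [pow_two]; exact mul_self_eq_one hb2) (ne_one_of_orderOf ha2) (ne_one_of_orderOf hb2))

/-- A four group is its own centraliser. -/
theorem P.eq_of_commute_pair (hP : P G) {z u c : G} (hz : orderOf z = 2) (hu : orderOf u = 2)
    (hne : u ≠ z) (hzu : Commute u z) (hcz : Commute c z) (hcu : Commute c u) :
    c = 1 ∨ c = z ∨ c = u ∨ c = u * z := by
  set H := Subgroup.closure ({u, z} : Set G) with hH
  have hum : u ∈ H := subset_closure (by simp)
  have hzm : z ∈ H := subset_closure (by simp)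
  have hc : c ∈ H := by
    refine hP.mem_of_commute (not_isCyclic_of_invols hum hzm hu hz hne) fun h hh => ?_
    have : H ≤ Subgroup.centralizer ({c} : Set G) := by
      rw [hH, closure_le]
      rintro x (rfl | rfl)
      · exact mem_centralizer_singleton_iff.mpr hcu.symm.eq
      · exact mem_centralizer_singleton_iff.mpr hcz.symm.eq
    exact mem_centralizer_singleton_iff.mp (this hh)
  obtain ⟨k, hk⟩ := (H26.mem_closure_pair_iff (mul_self_eq_one hu) (mul_self_eq_one hz)).1 hc
  have h2 : (u * z) ^ (2 : ℤ) = 1 := by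
    rw [show (2 : ℤ) = ((2 : ℕ) : ℤ) from rfl, zpow_natCast, hzu.mul_pow, pow_two, pow_two,
      mul_self_eq_one hu, mul_self_eq_one hz, one_mul]
  rcases Int.even_or_odd k with ⟨j, rfl⟩ | ⟨j, rfl⟩
  · rw [show j + j = 2 * j by ring, zpow_mul, h2, one_zpow, mul_one] at hk
    tauto
  · rw [zpow_add, zpow_mul, h2, one_zpow, one_mul, zpow_one, ← mul_assoc, mul_self_eq_one hu,
      one_mul] at hk
    tauto

/-- An involution other than `z` inverts no element of odd order in the centraliser of `z`. -/
theorem P.not_inverts (hP : P G) {z u d : G} (hz : orderOf z = 2) (hu : orderOf u = 2) (hne : u ≠ z)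
    (huz : Commute u z) (hdz : Commute d z) (hd : Odd (orderOf d))
    (hinv : u * d * u⁻¹ = d⁻¹) : d = 1 := by
  have hu2 := mul_self_eq_one hu
  by_contra hd1
  have hnc : ¬ Commute u d := fun h => by
    rw [h.eq, mul_inv_cancel_right, eq_inv_iff_mul_eq_one, ← pow_two] at hinv
    have h2 := orderOf_dvd_of_pow_eq_one hinv
    obtain ⟨j, hj⟩ := hd
    rcases (Nat.dvd_prime Nat.prime_two).mp h2 with h3 | h3
    · exact hd1 (orderOf_eq_one_iff.mp h3)
    · omega
  have hy : (u * d) * (u * d) = 1 := by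
    rw [H65.inv_eq_self hu] at hinv
    rw [← mul_assoc, hinv, inv_mul_cancel]
  have huy : u * (u * d) = d := by rw [← mul_assoc, hu2, one_mul]
  set H := Subgroup.closure ({u, u * d} : Set G) with hH
  have hum : u ∈ H := subset_closure (by simp)
  have hdm : d ∈ H := huy ▸ mul_mem hum (subset_closure (by simp) : u * d ∈ H)
  have hzH : z ∈ H := by
    refine hP.mem_of_commute (fun hc => hnc ?_) fun h hh => ?_
    · exact PGroups.comm_of_isMulCommutative (inferInstance : IsMulCommutative ↥H) hum hdm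
    · have : H ≤ Subgroup.centralizer ({z} : Set G) := by
        rw [hH, closure_le]
        rintro x (rfl | rfl)
        · exact mem_centralizer_singleton_iff.mpr huz.eq
        · exact mem_centralizer_singleton_iff.mpr (huz.mul_left hdz).eq
      exact mem_centralizer_singleton_iff.mp (this hh)
  obtain ⟨k, hk⟩ := (H26.mem_closure_pair_iff hu2 hy).1 hzH
  rw [huy] at hk
  rcases hk with hk | hk
  · have h1 : orderOf z ∣ orderOf d := hk ▸ orderOf_dvd_of_mem_zpowers (zpow_mem_zpowers d k)
    rw [hz] at h1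
    obtain ⟨j, hj⟩ := hd
    omega
  · refine hnc ?_
    have h1 : Commute (z * (d ^ k)⁻¹) d := hdz.symm.mul_left ((Commute.self_zpow d k).inv_right.symm)
    rwa [hk, mul_inv_cancel_right] at h1

/-- Involutions of the centraliser lie in a normal 2-subgroup of it. -/
theorem P.mem_sylow (hP : P G) (S : Sylow 2 G) {z : G} (hz : orderOf z = 2)
    (hSC : (S : Subgroup G) ≤ Subgroup.centralizer ({z} : Set G)) {v : G} (hv : orderOf v = 2)
    (hvz : Commute v z) : v ∈ (S : Subgroup G) := by
  haveI : Fact (Nat.Prime 2) := ⟨Nat.prime_two⟩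
  set C := Subgroup.centralizer ({z} : Set G) with hC
  by_cases hne : v = z
  · subst hne
    have hp : IsPGroup 2 ↥((S : Subgroup G) ⊔ zpowers v) := by
      refine IsPGroup.to_sup_of_normal_right' S.isPGroup' (IsPGroup.of_card (n := 1) ?_) ?_
      · rw [Nat.card_zpowers, hv, pow_one]
      · intro s hs
        rw [Subgroup.mem_normalizer_iff]
        intro x
        have hsv : Commute s v := mem_centralizer_singleton_iff.mp (hSC hs)
        constructor
        · rintro ⟨i, rfl⟩
          exact ⟨i, by simp only; rw [(hsv.zpow_right i).eq, mul_inv_cancel_right]⟩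
        · rintro ⟨i, hi⟩
          simp only at hi
          refine ⟨i, ?_⟩
          simp only
          rw [show x = s⁻¹ * (s * x * s⁻¹) * s by group, ← hi,
            (hsv.zpow_right i).inv_left.eq, inv_mul_cancel_right]
    exact (S.3 hp le_sup_left) ▸ mem_sup_right (mem_zpowers v)
  let S' : Sylow 2 ↥C := S.subtype hSC
  set w : ↥C := ⟨v, mem_centralizer_singleton_iff.mpr hvz.eq⟩ with hw
  have hw2 : w * w = 1 := Subtype.ext (mul_self_eq_one hv)
  have hpair : ∀ g : ↥C, IsPGroup 2 ↥(Subgroup.closure ({w, g * w * g⁻¹} : Set ↥C)) := by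
    intro g
    have hg2 : (g * w * g⁻¹) * (g * w * g⁻¹) = 1 := by
      rw [show (g * w * g⁻¹) * (g * w * g⁻¹) = g * (w * w) * g⁻¹ by group, hw2, mul_one,
        mul_inv_cancel]
    obtain ⟨a, m, hm, hnm⟩ :=
      Nat.exists_eq_two_pow_mul_odd (orderOf_pos (w * (g * w * g⁻¹))).ne'
    set d : ↥C := (w * (g * w * g⁻¹)) ^ (2 ^ a) with hd
    have hdm : d ^ m = 1 := by rw [hd, ← pow_mul, ← hnm, pow_orderOf_eq_one]
    have hdo : Odd (orderOf (d : G)) := by
      rw [Subgroup.orderOf_coe]
      exact hm.of_dvd_nat (orderOf_dvd_of_pow_eq_one hdm)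
    have hinv : w * d * w⁻¹ = d⁻¹ := by
      rw [show w⁻¹ = w from inv_eq_of_mul_eq_one_right hw2, hd, ← zpow_natCast,
        H26.conj_zpow_mul hw2 hg2, zpow_neg]
    have hd1 := hP.not_inverts hz hv hne hvz
      (mem_centralizer_singleton_iff.mp d.2 : Commute (d : G) z) hdo
      (congrArg Subtype.val hinv)
    exact H26.isPGroup_closure_pair hw2 hg2 (a := a) (Subtype.ext hd1)
  obtain ⟨N, hN, hNp, hwN⟩ := Thompson.baer_suzuki hpair
  have : N ≤ (S' : Subgroup ↥C) := by
    have h := S'.3 (S'.2.to_sup_of_normal_right hNp) le_sup_left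
    exact h ▸ le_sup_right
  exact this hwN

/-- The centraliser of a central involution of a Sylow 2-subgroup is that subgroup. -/
theorem P.centralizer_eq (hP : P G) (S : Sylow 2 G) (M : Subgroup G) (hMS : M ≤ (S : Subgroup G))
    (hM : Nat.card ↥M * 2 = Nat.card ↥(S : Subgroup G)) (hMc : IsCyclic ↥M) {z u : G}
    (hz : orderOf z = 2) (hu : orderOf u = 2) (hne : u ≠ z) (hzM : z ∈ M)
    (huS : u ∈ (S : Subgroup G)) (hSC : (S : Subgroup G) ≤ Subgroup.centralizer ({z} : Set G)) :
    Subgroup.centralizer ({z} : Set G) = (S : Subgroup G) := by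
  classical
  haveI : Fact (Nat.Prime 2) := ⟨Nat.prime_two⟩
  haveI := Fintype.ofFinite G
  refine le_antisymm ?_ hSC
  set C := Subgroup.centralizer ({z} : Set G) with hC
  have hmemC : ∀ g : G, g ∈ C ↔ Commute g z := fun g => mem_centralizer_singleton_iff
  have huz : Commute u z := (hmemC u).1 (hSC huS)
  set D := Subgroup.closure {g : G | orderOf g = 2 ∧ Commute g z} with hD
  have hDinv : ∀ g : G, orderOf g = 2 → Commute g z → g ∈ D := fun g h1 h2 =>
    subset_closure ⟨h1, h2⟩
  have hDS : D ≤ (S : Subgroup G) := by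
    rw [hD, closure_le]
    exact fun g hg => hP.mem_sylow S hz hSC hg.1 hg.2
  have hDC : D ≤ C := hDS.trans hSC
  have hDnorm : ∀ c ∈ C, ∀ d ∈ D, c * d * c⁻¹ ∈ D := by
    intro c hc d hd
    have : D ≤ D.comap (MulAut.conj c).toMonoidHom := by
      nth_rw 1 [hD]
      rw [closure_le]
      intro g hg
      refine hDinv _ (by simpa using (orderOf_conj' c g).trans hg.1) ?_
      show Commute (c * g * c⁻¹) z
      exact (((hmemC c).1 hc).mul_left hg.2).mul_left ((hmemC c).1 hc).inv_left
    simpa using this hd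
  -- the involutions of `D` other than `z` lie outside `M`
  set I : Finset G := Finset.univ.filter fun g => g ∈ D ∧ orderOf g = 2 ∧ g ≠ z with hI
  set T : Finset G := Finset.univ.filter fun g => g ∈ D with hT
  have hTc : T.card = Nat.card ↥D := by
    rw [hT, Nat.card_eq_fintype_card, Fintype.card_subtype]
  have huD : u ∈ D := hDinv u hu huz
  have hzD : z ∈ D := hDinv z hz (Commute.refl z)
  have hidx : (M.subgroupOf (S : Subgroup G)).index = 2 := by
    have h := (M.subgroupOf (S : Subgroup G)).card_mul_index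
    rw [Nat.card_congr (subgroupOfEquivOfLe hMS).toEquiv, ← hM] at h
    exact Nat.eq_of_mul_eq_mul_left Nat.card_pos h
  have hmul : ∀ a ∈ (S : Subgroup G), ∀ b ∈ (S : Subgroup G), (a * b ∈ M ↔ (a ∈ M ↔ b ∈ M)) :=
    fun a ha b hb => Subgroup.mul_mem_iff_of_index_two hidx (a := ⟨a, ha⟩) (b := ⟨b, hb⟩)
  have hout : ∀ g ∈ I, g ∈ D ∧ g ∉ M := by
    intro g hg
    rw [hI, Finset.mem_filter] at hg
    obtain ⟨-, hgD, hg2, hgz⟩ := hg
    refine ⟨hgD, fun h => hgz ?_⟩
    exact PGroups.eq_of_sq_eq_one hMc h hzM (by rw [pow_two]; exact mul_self_eq_one hg2)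
      (by rw [pow_two]; exact mul_self_eq_one hz) (ne_one_of_orderOf hg2) (ne_one_of_orderOf hz)
  have huM : u ∉ M := (hout u (by simp [hI, huD, hu, hne])).2
  have hIle : 2 * I.card ≤ Nat.card ↥D := by
    rw [← hTc, two_mul]
    have h1 : (I.image (u * ·)).card = I.card :=
      Finset.card_image_of_injective _ (mul_right_injective u)
    have h2 : Disjoint I (I.image (u * ·)) := by
      rw [Finset.disjoint_left]
      intro g hg hg'
      obtain ⟨a, ha, rfl⟩ := Finset.mem_image.mp hg'
      obtain ⟨haD, haM⟩ := hout a ha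
      exact (hout _ hg).2 ((hmul u huS a (hDS haD)).mpr (iff_of_false huM haM))
    calc I.card + I.card = (I ∪ I.image (u * ·)).card := by
          rw [Finset.card_union_of_disjoint h2, h1]
      _ ≤ T.card := Finset.card_le_card fun g hg => by
          rcases Finset.mem_union.mp hg with h | h
          · simp [hT, (hout g h).1]
          · obtain ⟨a, ha, rfl⟩ := Finset.mem_image.mp h
            simp [hT, mul_mem huD (hout a ha).1]
  -- the classes of `D` on these involutions
  let cls : G → Finset G := fun v => T.image fun d => d * v * d⁻¹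
  have hclsI : ∀ v ∈ I, cls v ⊆ I := by
    intro v hv g hg
    rw [hI, Finset.mem_filter] at hv
    obtain ⟨d, hd, rfl⟩ := Finset.mem_image.mp hg
    rw [hT, Finset.mem_filter] at hd
    obtain ⟨-, hvD, hv2, hvz⟩ := hv
    simp only [hI, Finset.mem_filter, Finset.mem_univ, true_and]
    refine ⟨mul_mem (mul_mem hd.2 hvD) (inv_mem hd.2), by rw [orderOf_conj', hv2], fun he => hvz ?_⟩
    have hdz : Commute d z := (hmemC d).1 (hDC hd.2)
    calc v = d⁻¹ * (d * v * d⁻¹) * d := by group
      _ = z := by rw [he, hdz.inv_left.eq, inv_mul_cancel_right]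
  have hclsc : ∀ v ∈ I, Nat.card ↥D ≤ 4 * (cls v).card := by
    intro v hv
    rw [hI, Finset.mem_filter] at hv
    obtain ⟨-, hvD, hv2, hvz⟩ := hv
    rw [← hTc]
    refine Finset.card_le_mul_card_image_of_maps_to (f := fun d => d * v * d⁻¹)
      (fun d hd => Finset.mem_image_of_mem _ hd) 4 ?_
    intro g hg
    obtain ⟨d₀, hd₀, rfl⟩ := Finset.mem_image.mp hg
    calc (T.filter fun d => d * v * d⁻¹ = d₀ * v * d₀⁻¹).card
        ≤ (({1, z, v, v * z} : Finset G).image (d₀ * ·)).card := Finset.card_le_card fun d hd => by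
          rw [Finset.mem_filter] at hd
          rw [hT, Finset.mem_filter] at hd hd₀
          refine Finset.mem_image.mpr ⟨d₀⁻¹ * d, ?_, by simp⟩
          have h1 : Commute (d₀⁻¹ * d) v := by
            rw [commute_iff_eq]
            calc d₀⁻¹ * d * v = d₀⁻¹ * (d * v * d⁻¹) * d := by group
              _ = v * (d₀⁻¹ * d) := by rw [hd.2]; group
          have h2 : Commute (d₀⁻¹ * d) z :=
            ((hmemC d₀).1 (hDC hd₀.2)).inv_left.mul_left ((hmemC d).1 (hDC hd.1.2))
          rcases hP.eq_of_commute_pair hz hv2 hvz ((hmemC v).1 (hDC hvD)) h2 h1 with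
            h | h | h | h <;> simp [h]
      _ ≤ 4 := Finset.card_image_le.trans Finset.card_le_four
  have hfix : ∀ v ∈ I, ∀ c ∈ C, c * v * c⁻¹ ∈ cls v → c ∈ (S : Subgroup G) := by
    intro v hv c hc hcv
    obtain ⟨d, hd, hde⟩ := Finset.mem_image.mp hcv
    simp only [hI, hT, Finset.mem_filter, Finset.mem_univ, true_and] at hv hd
    have h1 : Commute (d⁻¹ * c) v := by
      rw [commute_iff_eq]
      calc d⁻¹ * c * v = d⁻¹ * (c * v * c⁻¹) * c := by group
        _ = v * (d⁻¹ * c) := by rw [← hde]; group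
    have h2 : Commute (d⁻¹ * c) z := ((hmemC d).1 (hDC hd)).inv_left.mul_left ((hmemC c).1 hc)
    have h3 : d⁻¹ * c ∈ (S : Subgroup G) := by
      rcases hP.eq_of_commute_pair hz hv.2.1 hv.2.2 ((hmemC v).1 (hDC hv.1)) h2 h1 with
        h | h | h | h <;> rw [h]
      · exact one_mem _
      · exact hDS hzD
      · exact hDS hv.1
      · exact hDS (mul_mem hv.1 hzD)
    simpa using mul_mem (hDS hd) h3
  -- odd elements of the centraliser
  have hodd : ∀ c ∈ C, Odd (orderOf c) → c = 1 := by
    intro c hc ho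
    by_contra hc1
    have hcS : c ∉ (S : Subgroup G) := by
      intro h
      obtain ⟨a, ha⟩ := S.2 ⟨c, h⟩
      have h1 : orderOf c ∣ 2 ^ a := orderOf_dvd_of_pow_eq_one (congrArg Subtype.val ha)
      exact hc1 (orderOf_eq_one_iff.mp (Nat.eq_one_of_dvd_coprimes
        ((Nat.coprime_two_left.mpr ho).pow_left a) h1 dvd_rfl))
    have huI : u ∈ I := by simp [hI, huD, hu, hne]
    set v := c * u * c⁻¹ with hv
    have hvz : v ≠ z := fun he => hne (by
      have hcz := (hmemC c).1 hc
      calc u = c⁻¹ * (c * u * c⁻¹) * c := by group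
        _ = z := by rw [← hv, he, hcz.inv_left.eq, inv_mul_cancel_right])
    have hvI : v ∈ I := by
      simp [hI, hv, hDnorm c hc u huD, orderOf_conj', hu, hv ▸ hvz]
    have h1 : v ∉ cls u := fun h => hcS (hfix u huI c hc h)
    have hdis : Disjoint (cls u) (cls v) := by
      rw [Finset.disjoint_left]
      intro g hg hg'
      obtain ⟨d, hd, rfl⟩ := Finset.mem_image.mp hg
      obtain ⟨d', hd', he⟩ := Finset.mem_image.mp hg'
      refine h1 (Finset.mem_image.mpr ⟨d'⁻¹ * d, ?_, ?_⟩)
      · simp only [hT, Finset.mem_filter, Finset.mem_univ, true_and] at hd hd' ⊢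
        exact mul_mem (inv_mem hd') hd
      · calc d'⁻¹ * d * u * (d'⁻¹ * d)⁻¹ = d'⁻¹ * (d * u * d⁻¹) * d' := by group
          _ = v := by rw [← he]; group
    have hw : c * v * c⁻¹ ∈ cls u ∪ cls v := by
      by_contra hnot
      have hwI : c * v * c⁻¹ ∈ I := by
        have hcz := (hmemC c).1 hc
        simp only [hI, Finset.mem_filter, Finset.mem_univ, true_and] at hvI ⊢
        refine ⟨hDnorm c hc v hvI.1, by rw [orderOf_conj', hvI.2.1], fun he => hvI.2.2 ?_⟩
        calc v = c⁻¹ * (c * v * c⁻¹) * c := by group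
          _ = z := by rw [he, hcz.inv_left.eq, inv_mul_cancel_right]
      have h3 : (cls u ∪ cls v).card + 1 ≤ I.card := by
        rw [← Finset.card_insert_of_notMem hnot]
        exact Finset.card_le_card (Finset.insert_subset hwI
          (Finset.union_subset (hclsI u huI) (hclsI v hvI)))
      rw [Finset.card_union_of_disjoint hdis] at h3
      have := hclsc u huI
      have := hclsc v hvI
      omega
    rcases Finset.mem_union.mp hw with h | h
    · refine hcS ?_
      have h2 : c * c ∈ (S : Subgroup G) := hfix u huI (c * c) (mul_mem hc hc) (by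
        rw [show c * c * u * (c * c)⁻¹ = c * v * c⁻¹ by rw [hv]; group]; exact h)
      obtain ⟨j, hj⟩ := ho
      have h3 : c = (c * c) ^ (j + 1) := by
        rw [← pow_two, ← pow_mul, show 2 * (j + 1) = orderOf c + 1 by omega, pow_succ,
          pow_orderOf_eq_one, one_mul]
      rw [h3]
      exact pow_mem h2 _
    · exact hcS (hfix v hvI c hc h)
  intro c hc
  have hCp : IsPGroup 2 ↥C := by
    intro x
    obtain ⟨a, m, hm, hnm⟩ := Nat.exists_eq_two_pow_mul_odd (orderOf_pos x).ne'
    refine ⟨a, Subtype.ext (hodd _ (x ^ 2 ^ a).2 ?_)⟩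
    rw [Subgroup.orderOf_coe]
    exact hm.of_dvd_nat (orderOf_dvd_of_pow_eq_one (by rw [← pow_mul, ← hnm, pow_orderOf_eq_one]))
  exact (S.3 hCp hSC) ▸ hc

end Cfsg.Agent.H65.SelfCent
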