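import Cfsg.Agent.H65.SelfCent.Sylow
import Cfsg.Agent.H65.BSW.Main
import Cfsg.Agent.H65.BSW.DihedralPSL
import Cfsg.Agent.H71.ExceptionalCommute
import Cfsg.Agent.S3370
import Cfsg.Agent.Linear.Order

/-!
Simple groups of even order with self-centralising noncyclic subgroups are groups `PSL(2, q)`.
-/

set_option autoImplicit false
set_option linter.unusedSectionVars false
set_option linter.style.haveILetI false

namespace Cfsg.Agent.H65.SelfCent

open Subgroup BSW

universe u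

variable {G : Type u} [Group G] [Finite G]

/-- The order of the group, as `q (q ^ 2 - 1) / 2` with `q` next to twice the order of the torus. -/
theorem exists_q (D : Data G) : ∃ q : ℕ, 2 ≤ q ∧ (q = 2 * k D + 1 ∨ q + 1 = 2 * k D) ∧
    2 * Nat.card G = q * (q + 1) * (q - 1) := by
  classical
  haveI := Fintype.ofFinite G
  have hk1 : 2 ≤ k D := Nat.le_of_dvd Nat.card_pos
    (D.ht ▸ Subgroup.orderOf_dvd_natCard D.K D.htK)
  rcases eq_or_lt_of_le hk1 with hk | hk
  · have hKsq : ∀ x ∈ D.K, x ^ 2 = 1 := fun x hx =>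
      orderOf_dvd_iff_pow_eq_one.1 (hk ▸ Subgroup.orderOf_dvd_natCard D.K hx)
    have h4 : ∀ v : G, orderOf v = 2 → Nat.card ↥(Subgroup.centralizer ({v} : Set G)) = 4 ∧
        ∀ c ∈ Subgroup.centralizer ({v} : Set G), c ^ 2 = 1 := by
      intro v hv
      obtain ⟨y, hy⟩ := isConj_iff.1 (D.hone D.t v D.ht hv)
      refine ⟨by rw [← hy, card_cent_conj, card_cent_t, ← hk], fun c hc => ?_⟩
      have hcv : c * v = v * c := mem_centralizer_singleton_iff.1 hc
      have h1 : Commute (y⁻¹ * c * y) D.t := by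
        rw [← hy] at hcv
        rw [commute_iff_eq]
        calc y⁻¹ * c * y * D.t = y⁻¹ * (c * (y * D.t * y⁻¹)) * y := by group
          _ = D.t * (y⁻¹ * c * y) := by rw [hcv]; group
      have h2 : (y⁻¹ * c * y) ^ 2 = 1 := by
        by_cases h : y⁻¹ * c * y ∈ D.K
        · exact hKsq _ h
        · rw [pow_two]; exact mul_self_eq_one (outside D h1 h).1
      rw [show c = y * (y⁻¹ * c * y) * y⁻¹ by group, conj_pow, h2, mul_one, mul_inv_cancel]
    have hinv := FourCount.card_invs h4 (fun a b ha hb => D.hone a b ha hb) D.ht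
    rw [show (FourCount.invs (G := G)) = Finset.univ.filter fun v : G => orderOf v = 2 from rfl]
      at hinv
    have hI := card_invols_mul D
    rw [← hk] at hI ⊢
    rcases hinv with h | h <;> rw [h] at hI
    · exact ⟨3, by norm_num, Or.inr (by norm_num), by rw [← hI]⟩
    · exact ⟨5, by norm_num, Or.inl rfl, by rw [← hI]⟩
  rcases columns D hk with ⟨hg, -⟩ | ⟨hg, -⟩
  · refine ⟨2 * k D + 1, by omega, Or.inl rfl, ?_⟩
    have hg' : Nat.card G = k D * (2 * k D + 1) * (2 * k D + 2) := by exact_mod_cast hg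
    rw [hg', Nat.add_sub_cancel]
    ring
  · refine ⟨2 * k D - 1, by omega, Or.inr (by omega), ?_⟩
    obtain ⟨m, hm⟩ : ∃ m, k D = m + 1 := ⟨k D - 1, by omega⟩
    rw [show 2 * k D - 1 = 2 * m + 1 by omega, show 2 * m + 1 - 1 = 2 * m by omega]
    apply Int.natCast_inj.1
    push_cast
    rw [hg, hm]
    push_cast
    ring

/-- A prime power next to a power of two. -/
theorem q_cases {p f a : ℕ} (hp : p.Prime) (hf : 0 < f) (ha : 0 < a)
    (h : p ^ f = 2 ^ a + 1 ∨ p ^ f + 1 = 2 ^ a) :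
    p ^ f = 9 ∨ (p ^ f).Prime ∧ ∃ k : ℕ, p ^ f = 2 ^ k + 1 ∨ p ^ f = 2 ^ k - 1 := by
  rcases h with h | h
  · rcases H71.pow_fermat_cases hp hf ha h with rfl | ⟨-, rfl⟩
    · exact Or.inr ⟨by rw [pow_one]; exact hp, a, Or.inl h⟩
    · exact Or.inl (by rw [h]; norm_num)
  · exact Or.inr ⟨by rw [S3370.exp_one hp h hf]; exact hp, a, Or.inr (by omega)⟩

theorem psl_of_dihedral [IsSimpleGroup G] (S : Sylow 2 G) {n a : ℕ} {z : G} (hn : 2 ≤ n) (hna2 : n = 2 ^ a)
    (hS : Nonempty ((S : Subgroup G) ≃* DihedralGroup n)) (hz : orderOf z = 2)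
    (hzS : z ∈ (S : Subgroup G)) (hC : Subgroup.centralizer ({z} : Set G) = (S : Subgroup G)) :
    ∃ (F : Type) (_ : Field F) (_ : Fintype F),
      (Fintype.card F = 4 ∨ Fintype.card F = 9 ∨ ((Fintype.card F).Prime ∧
        ∃ k : ℕ, Fintype.card F = 2 ^ k + 1 ∨ Fintype.card F = 2 ^ k - 1)) ∧
      Nonempty (G ≃* Matrix.ProjectiveSpecialLinearGroup (Fin 2) F) := by
  classical
  have hzZ : ∀ s ∈ (S : Subgroup G), s * z = z * s := fun s hs =>
    mem_centralizer_singleton_iff.mp (hC ▸ hs)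
  have hO : (Cfsg.oddCore (Subgroup.centralizer ({z} : Set G))).map
      (Subgroup.centralizer ({z} : Set G)).subtype = ⊥ := by
    rw [Subgroup.map_eq_bot_iff_of_injective _ (Subgroup.subtype_injective _),
      ← Subgroup.card_eq_one]
    have hodd := Cores.odd_card_oddCore (G := ↥(Subgroup.centralizer ({z} : Set G)))
    have h2 : IsPGroup 2 ↥(Subgroup.centralizer ({z} : Set G)) := by rw [hC]; exact S.2
    haveI : Fact (Nat.Prime 2) := ⟨Nat.prime_two⟩
    obtain ⟨j, hj⟩ := IsPGroup.iff_card.mp (h2.to_subgroup (Cfsg.oddCore _))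
    rw [hj] at hodd ⊢
    rcases Nat.eq_zero_or_pos j with rfl | hj0
    · rfl
    · exact absurd (even_iff_two_dvd.mpr (dvd_pow_self 2 hj0.ne'))
        (Nat.not_even_iff_odd.mpr hodd)
  obtain ⟨D, hDt⟩ := exists_data S n hn hS z hz hzS hzZ ⊥ hO.symm (fun h => absurd rfl h)
    (fun s _ _ y hy => by rw [Subgroup.mem_bot.mp hy]; simp) (fun Y hY h => absurd (le_bot_iff.mp hY) h)
  obtain ⟨F, hF, hFt, hodd, hiso⟩ := concl_psl (main D)
  refine ⟨F, hF, hFt, ?_, hiso⟩
  obtain ⟨e⟩ := hS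
  have hk : 2 * k D = 2 * n := by
    rw [← card_cent_t D, hDt, hC, Nat.card_congr e.toEquiv, DihedralGroup.nat_card]
  obtain ⟨q, hq2, hq, hG⟩ := exists_q D
  obtain ⟨e'⟩ := hiso
  have hcard := Linear.card_PSL_two_mul (F := F)
  set r := Fintype.card F with hr
  have hgcd : Nat.gcd 2 (r - 1) = 2 :=
    Nat.gcd_eq_left (Nat.Odd.sub_odd hodd odd_one).two_dvd
  rw [hgcd, ← Nat.card_congr e'.toEquiv, hG] at hcard
  have hqr : q = r := by
    have hmono : StrictMonoOn (fun x : ℕ => x * (x ^ 2 - 1)) (Set.Ici 1) := by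
      intro x hx y hy hxy
      simp only [Set.mem_Ici] at hx hy
      have h1 : x ^ 2 < y ^ 2 := Nat.pow_lt_pow_left hxy (by norm_num)
      have h2 : 1 ≤ x ^ 2 := Nat.one_le_pow _ _ hx
      exact Nat.mul_lt_mul_of_le_of_lt hxy.le (by omega) (by omega)
    refine hmono.injOn (show 1 ≤ q by omega) (show 1 ≤ r from Fintype.card_pos) ?_
    show q * (q ^ 2 - 1) = r * (r ^ 2 - 1)
    rw [← hcard, mul_assoc]
    congr 1
    have := Nat.sq_sub_sq q 1
    simpa using this
  obtain ⟨p, hp⟩ := CharP.exists F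
  obtain ⟨f, hpp, hf⟩ := FiniteField.card F p
  refine Or.inr ?_
  rw [hr, hf]
  refine q_cases (a := a + 1) hpp f.pos (by omega) ?_
  rw [← hf, ← hr, ← hqr, pow_succ']
  subst hna2
  omega

theorem P.exists_psl [IsSimpleGroup G] (hP : P G) (hna : ¬ IsMulCommutative G)
    (heven : Even (Nat.card G)) :
    ∃ (F : Type) (_ : Field F) (_ : Fintype F),
      (Fintype.card F = 4 ∨ Fintype.card F = 9 ∨ ((Fintype.card F).Prime ∧
        ∃ k : ℕ, Fintype.card F = 2 ^ k + 1 ∨ Fintype.card F = 2 ^ k - 1)) ∧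
      Nonempty (G ≃* Matrix.ProjectiveSpecialLinearGroup (Fin 2) F) := by
  classical
  obtain ⟨S, n, a, z, hn, hna2, hS, hz, hzS, hC⟩ := hP.exists_dihedral hna heven
  exact psl_of_dihedral S hn hna2 hS hz hzS hC

end Cfsg.Agent.H65.SelfCent
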