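import Cfsg.Agent.Linear.Dickson.Partition
import Cfsg.Agent.H65.SelfCent.Basic

/-!
The groups `PSL(2, q)`, for `q = 4, 9` or a Fermat or Mersenne prime, have self-centralising
noncyclic subgroups.
-/

set_option autoImplicit false
set_option linter.unusedSectionVars false
set_option linter.style.haveILetI false

namespace Cfsg.Agent.H65.SelfCent

open Matrix Cfsg.Agent.Linear Cfsg.Agent.Linear.Dickson

universe u

theorem P.of_equiv {G : Type u} {H : Type*} [Group G] [Group H] (hP : P H) (e : G ≃* H) : P G := by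
  intro A hA g hg
  have hA' : ¬ IsCyclic ↥(A.map e.toMonoidHom) := fun h =>
    hA (isCyclic_of_surjective (A.equivMapOfInjective e.toMonoidHom e.injective).symm.toMonoidHom
      (MulEquiv.surjective _))
  have hmem : e g ∈ A.map e.toMonoidHom := by
    refine hP _ hA' (Subgroup.mem_centralizer_iff.mpr ?_)
    rintro _ ⟨a, ha, rfl⟩
    show e a * e g = e g * e a
    rw [← map_mul, ← map_mul, Subgroup.mem_centralizer_iff.mp hg a ha]
  obtain ⟨a, ha, hae⟩ := hmem
  exact e.injective hae ▸ ha

theorem two_pow_of_torus {q c : ℕ} (hq : Odd q) (hc : 2 ∣ c)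
    (h : 2 * c = q - 1 ∨ 2 * c = q + 1)
    (hS : q = 4 ∨ q = 9 ∨ q.Prime ∧ ∃ k : ℕ, q = 2 ^ k + 1 ∨ q = 2 ^ k - 1) :
    ∃ j : ℕ, c = 2 ^ j := by
  rcases hS with rfl | rfl | ⟨hp, k, hk⟩
  · exact absurd hq (by decide)
  · exact ⟨2, by omega⟩
  obtain ⟨d, hd⟩ := hc
  have hq2 := hp.two_le
  rcases k with _ | _ | j
  · rw [pow_zero] at hk
    exact absurd hq (by rcases hk with rfl | rfl <;> decide)
  · rw [pow_one] at hk
    exact ⟨1, by omega⟩
  · rw [pow_succ, pow_succ] at hk
    refine ⟨j + 1, ?_⟩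
    rw [pow_succ]
    omega

variable {F : Type*} [Field F] [Fintype F]

local notation "M2" => Matrix (Fin 2) (Fin 2) F
local notation "S2" => Matrix.SpecialLinearGroup (Fin 2) F
local notation "P2" => Matrix.ProjectiveSpecialLinearGroup (Fin 2) F

/-- The centraliser of an element is its torus, except for involutions in odd characteristic. -/
theorem commute_cases {g h : P2} (hc : Commute h g) :
    h ∈ cen g ∨ ((2 : F) ≠ 0 ∧ g * g = 1 ∧ ¬ IsUni g) := by
  obtain ⟨X, rfl⟩ := proj_surjective g
  obtain ⟨Y, rfl⟩ := proj_surjective h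
  have e := hc.eq
  rw [← map_mul, ← map_mul] at e
  rcases proj_eq_iff.mp e with e | e
  · exact Or.inl (mem_cen_proj.mpr (Subgroup.mem_centralizer_singleton_iff.mpr e.symm))
  · by_cases h2 : (2 : F) = 0
    · refine Or.inl (mem_cen_proj.mpr (Subgroup.mem_centralizer_singleton_iff.mpr ?_))
      have hneg : ∀ A : M2, -A = A := fun A => by
        ext i j
        rw [Matrix.neg_apply, neg_eq_iff_add_eq_zero, ← two_mul, h2, zero_mul]
      exact (e.trans (Subtype.ext (hneg _))).symm
    · refine Or.inr ⟨h2, ?_, ?_⟩ <;>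
      have hX : (Y * X * Y⁻¹ : S2) = -X := by
        rw [show Y * X = -(X * Y) by rw [e, neg_neg], neg_mul, mul_inv_cancel_right]
      all_goals
        have ht := trace_conj X Y
        rw [hX] at ht
        simp only [Matrix.SpecialLinearGroup.coe_neg, Matrix.trace_neg] at ht
        have ht0 : (X : M2).trace = 0 := by
          have : 2 * (X : M2).trace = 0 := by linear_combination -ht
          exact (mul_eq_zero.mp this).resolve_left h2
      · rw [← map_mul, proj_eq_one_iff, isScalarTwo_iff]
        refine ⟨-1, ?_⟩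
        rw [Matrix.SpecialLinearGroup.coe_mul, SL_sq_eq, ht0, zero_smul, zero_sub, neg_smul,
          one_smul]
      · rw [isUni_proj, ht0]
        intro h4
        refine h2 ?_
        have h5 : (2 : F) * 2 = 0 := by linear_combination -h4
        simpa using h5

theorem selfCent_psl (hS : Fintype.card F = 4 ∨ Fintype.card F = 9 ∨ ((Fintype.card F).Prime ∧
    ∃ k : ℕ, Fintype.card F = 2 ^ k + 1 ∨ Fintype.card F = 2 ^ k - 1)) : P P2 := by
  classical
  intro H hH g hg
  have hcomm : ∀ h ∈ H, Commute h g := fun h hh => Subgroup.mem_centralizer_iff.mp hg h hh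
  by_cases hg1 : g = 1
  · exact hg1 ▸ H.one_mem
  by_cases hex : (2 : F) ≠ 0 ∧ g * g = 1 ∧ ¬ IsUni g
  · obtain ⟨h2, hgg, hu⟩ := hex
    have hodd : Odd (Fintype.card F) := Nat.odd_iff.mpr (FiniteField.odd_card_of_char_ne_two
      fun h => h2 (by
        haveI : CharP F 2 := h ▸ ringChar.charP F
        exact CharTwo.two_eq_zero))
    haveI := isCyclic_cen hu
    have hgo : orderOf g = 2 := orderOf_eq_prime (by rw [pow_two]; exact hgg) hg1
    have hev : 2 ∣ Nat.card (cen g) := (dvd_of_eq hgo.symm).trans (Subgroup.orderOf_dvd_natCard _ (mem_cen_self g))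
    have hcz : Nat.card (Subgroup.center S2) = 2 := by
      rw [card_center_two_dvd]
      exact Nat.gcd_eq_left (Nat.Odd.sub_odd hodd odd_one).two_dvd
    obtain ⟨j, hj⟩ := two_pow_of_torus hodd hev (by
      rcases card_cen_torus hu with e | e <;> rw [hcz] at e
      · exact Or.inl e
      · exact Or.inr e) hS
    by_cases hI : H ⊓ cen g = ⊥
    · exfalso
      have hnorm : ∀ h ∈ H, ∀ y, y ∈ cen g ↔ h * y * h⁻¹ ∈ cen g := by
        intro h hh y
        have e : h * g * h⁻¹ = g := by rw [(hcomm h hh).eq, mul_inv_cancel_right]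
        conv_rhs => rw [← e]
        exact (mem_cen_conj h g y).symm
      have hout : ∀ h ∈ H, h ≠ 1 → h ∉ cen g := fun h hh h1 hc =>
        h1 (Subgroup.mem_bot.mp (hI ▸ Subgroup.mem_inf.mpr ⟨hh, hc⟩))
      have hprod : ∀ a ∈ H, ∀ b ∈ H, a ≠ 1 → b ≠ 1 → a * b = 1 := fun a ha b hb ha1 hb1 =>
        Subgroup.mem_bot.mp (hI ▸ Subgroup.mem_inf.mpr ⟨mul_mem ha hb,
          inverter_mul_mem hu (hnorm a ha) (hnorm b hb) (hout a ha ha1) (hout b hb hb1)⟩)
      apply hH
      by_cases htriv : ∃ a ∈ H, a ≠ 1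
      · obtain ⟨a, ha, ha1⟩ := htriv
        refine Subgroup.isCyclic_of_le (H' := Subgroup.zpowers a) fun b hb => ?_
        by_cases hb1 : b = 1
        · exact hb1 ▸ one_mem _
        · rw [show b = a⁻¹ from (inv_eq_of_mul_eq_one_right (hprod a ha b hb ha1 hb1)).symm]
          exact inv_mem (Subgroup.mem_zpowers a)
      · push Not at htriv
        refine Subgroup.isCyclic_of_le (H' := Subgroup.zpowers g) fun b hb => ?_
        rw [htriv b hb]; exact one_mem _
    · haveI : Fact (Nat.Prime 2) := ⟨Nat.prime_two⟩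
      have hp : IsPGroup 2 ↥(cen g) := IsPGroup.of_card (n := j) hj
      have hp' : IsPGroup 2 ↥(H ⊓ cen g) := hp.to_le inf_le_right
      haveI : Nontrivial ↥(H ⊓ cen g) := (Subgroup.nontrivial_iff_ne_bot _).mpr hI
      obtain ⟨n, hn0, hn⟩ := hp'.nontrivial_iff_card.mp inferInstance
      obtain ⟨x, hx⟩ := exists_prime_orderOf_dvd_card' (G := ↥(H ⊓ cen g)) 2
        (hn ▸ dvd_pow_self 2 hn0.ne')
      have hx2 : orderOf (x : P2) = 2 := by rw [Subgroup.orderOf_coe, hx]
      have : (x : P2) = g := by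
        by_contra hne
        exact not_isCyclic_of_invols (Subgroup.mem_inf.mp x.2).2 (mem_cen_self g) hx2 hgo hne
          inferInstance
      exact this ▸ (Subgroup.mem_inf.mp x.2).1
  · have hle : H ≤ cen g := fun h hh => (commute_cases (hcomm h hh)).resolve_right hex
    by_cases hu : IsUni g
    · have hc := card_cen_of_isUni hg1 hu
      have hdvd := Subgroup.card_dvd_of_le hle
      rw [hc] at hdvd
      have hbad : ∀ p : ℕ, p.Prime → Nat.card ↥H ∣ p → False := fun p hp h => by
        haveI : Fact p.Prime := ⟨hp⟩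
        exact hH (isCyclic_of_card_dvd_prime h)
      rcases hS with h | h | ⟨h, -⟩
      · rw [h, show (4 : ℕ) = 2 ^ 2 from rfl] at hdvd
        obtain ⟨i, hi, hi'⟩ := (Nat.dvd_prime_pow Nat.prime_two).mp hdvd
        interval_cases i
        · exact (hbad 2 Nat.prime_two (by rw [hi']; norm_num)).elim
        · exact (hbad 2 Nat.prime_two (by rw [hi']; norm_num)).elim
        · rw [Subgroup.eq_of_le_of_card_ge hle (by rw [hc, hi', h]; norm_num)]
          exact mem_cen_self g
      · rw [h, show (9 : ℕ) = 3 ^ 2 from rfl] at hdvd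
        obtain ⟨i, hi, hi'⟩ := (Nat.dvd_prime_pow Nat.prime_three).mp hdvd
        interval_cases i
        · exact (hbad 3 Nat.prime_three (by rw [hi']; norm_num)).elim
        · exact (hbad 3 Nat.prime_three (by rw [hi']; norm_num)).elim
        · rw [Subgroup.eq_of_le_of_card_ge hle (by rw [hc, hi', h]; norm_num)]
          exact mem_cen_self g
      · exact (hbad _ h hdvd).elim
    · haveI := isCyclic_cen hu
      exact absurd (Subgroup.isCyclic_of_le hle) hH

end Cfsg.Agent.H65.SelfCent
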