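import Cfsg.Agent.H65.SelfCent.Direct
import Cfsg.Agent.H65.SelfCent.Converse

/-!
The classification of simple groups with self-centralising noncyclic subgroups, given that groups
of odd order are solvable.
-/

set_option autoImplicit false

namespace Cfsg.Agent.H65.SelfCent

universe u

theorem classification {G : Type u} [Group G] [Finite G] [IsSimpleGroup G]
    (hna : ¬ IsMulCommutative G) (hFT : Odd (Nat.card G) → Group.IsSolvable G) :
    (∀ H : Subgroup G, ¬ IsCyclic ↥H → Subgroup.centralizer (H : Set G) ≤ H) ↔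
    ∃ (F : Type) (_ : Field F) (_ : Fintype F),
      (Fintype.card F = 4 ∨ Fintype.card F = 9 ∨ ((Fintype.card F).Prime ∧
        ∃ k : ℕ, Fintype.card F = 2 ^ k + 1 ∨ Fintype.card F = 2 ^ k - 1)) ∧
      Nonempty (G ≃* Matrix.ProjectiveSpecialLinearGroup (Fin 2) F) := by
  refine ⟨fun hP => P.exists_psl hP hna (Nat.not_odd_iff_even.mp fun hodd => hna ?_), ?_⟩
  · haveI := hFT hodd
    exact ⟨⟨fun a b => IsSimpleGroup.comm_iff_isSolvable.mpr inferInstance a b⟩⟩
  · rintro ⟨F, hF, hFt, hS, ⟨e⟩⟩
    exact (selfCent_psl hS).of_equiv e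

end Cfsg.Agent.H65.SelfCent
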