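import Cfsg.Agent.H65.SelfCent.Basic
import Cfsg.Agent.PGroups.TwoGroups
import Mathlib.GroupTheory.Transfer

/-!
The Sylow 2-subgroups of simple groups with self-centralising noncyclic subgroups.
-/

set_option autoImplicit false
set_option linter.unusedSectionVars false
set_option linter.style.haveILetI false

namespace Cfsg.Agent.H65.SelfCent

open Subgroup

universe u

variable {G : Type u} [Group G] [Finite G]

/-- A transfer argument: an element whose square is `z`, where `C(z)` is the Sylow subgroup, cannot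
lie outside a subgroup of index two containing all involutions. -/
theorem no_element_outside (S : Sylow 2 G) {z x : G}
    (hC : Subgroup.centralizer ({z} : Set G) = (S : Subgroup G))
    (φ : ↥(S : Subgroup G) →* Multiplicative (ZMod 2)) (hxS : x ∈ (S : Subgroup G))
    (hx : x * x = z) (hz : orderOf z = 2) (hφx : φ ⟨x, hxS⟩ ≠ 1)
    (hsq : ∀ g ∈ (S : Subgroup G), orderOf (g * g) = 2 → g * g = z)
    (hinv : ∀ g : ↥(S : Subgroup G), g * g = 1 → φ g = 1)
    (hG : ∀ f : G →* Multiplicative (ZMod 2), f = 1) : False := by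
  classical
  haveI := Fintype.ofFinite (G ⧸ (S : Subgroup G))
  have hz1 := ne_one_of_orderOf hz
  have h := congrArg (fun f : G →* Multiplicative (ZMod 2) => f x) (hG (MonoidHom.transfer φ))
  simp only [MonoidHom.one_apply] at h
  rw [MonoidHom.transfer_eq_prod_quotient_orbitRel_zpowers_quot] at h
  set q₀ : Quotient (MulAction.orbitRel (zpowers x) (G ⧸ (S : Subgroup G))) :=
    Quotient.mk'' ((1 : G) : G ⧸ (S : Subgroup G)) with hq₀
  have hfixed : x • ((1 : G) : G ⧸ (S : Subgroup G)) = ((1 : G) : G ⧸ (S : Subgroup G)) := by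
    rw [MulAction.Quotient.smul_mk, QuotientGroup.eq, smul_eq_mul, mul_one, mul_one]
    exact inv_mem hxS
  have hout : q₀.out = ((1 : G) : G ⧸ (S : Subgroup G)) := by
    have h1 : MulAction.orbitRel (zpowers x) (G ⧸ (S : Subgroup G)) q₀.out
        ((1 : G) : G ⧸ (S : Subgroup G)) := Quotient.exact (by rw [Quotient.out_eq])
    rw [MulAction.orbitRel_apply, MulAction.mem_orbit_iff] at h1
    obtain ⟨⟨k, i, rfl⟩, hk⟩ := h1
    rw [← hk]
    show x ^ i • ((1 : G) : G ⧸ (S : Subgroup G)) = _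
    rw [MulAction.Quotient.smul_mk, QuotientGroup.eq, smul_eq_mul, mul_one, mul_one]
    exact inv_mem (zpow_mem hxS i)
  -- the value at a coset
  have hval : ∀ g : G, ∀ hm : g⁻¹ * x ^ Function.minimalPeriod (x • ·) (g : G ⧸ (S : Subgroup G)) * g
      ∈ (S : Subgroup G), g ∉ (S : Subgroup G) → φ ⟨_, hm⟩ = 1 := by
    intro g hm hgS
    set L := Function.minimalPeriod (x • ·) (g : G ⧸ (S : Subgroup G)) with hL
    have hx4 : x ^ 4 = 1 := by
      rw [show (4 : ℕ) = 2 * 2 from rfl, pow_mul, pow_two x, hx, pow_two, mul_self_eq_one hz]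
    have hdvd : L ∣ 2 ^ 2 := by
      refine Function.IsPeriodicPt.minimalPeriod_dvd ?_
      show ((fun q : G ⧸ (S : Subgroup G) => x • q)^[2 ^ 2]) (g : G ⧸ (S : Subgroup G)) = _
      rw [smul_iterate, show (2 : ℕ) ^ 2 = 4 from rfl]
      simp [hx4]
    obtain ⟨j, hj, hLj⟩ := (Nat.dvd_prime_pow Nat.prime_two).mp hdvd
    interval_cases j
    · -- fixed cosets are represented in `S`
      exfalso
      rw [hLj, pow_zero, pow_one] at hm
      refine hgS ?_
      have hsq' : (g⁻¹ * x * g) * (g⁻¹ * x * g) = g⁻¹ * z * g := by rw [← hx]; group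
      have h2 : orderOf ((g⁻¹ * x * g) * (g⁻¹ * x * g)) = 2 := by
        rw [hsq']
        have := orderOf_conj' g⁻¹ z
        rw [inv_inv] at this
        rw [this, hz]
      have h3 := hsq _ hm h2
      rw [hsq'] at h3
      rw [← hC, mem_centralizer_singleton_iff]
      calc g * z = g * (g⁻¹ * z * g) := by rw [h3]
        _ = z * g := by group
    · apply hinv
      apply Subtype.ext
      show (g⁻¹ * x ^ L * g) * (g⁻¹ * x ^ L * g) = 1
      rw [hLj, pow_one, pow_two, hx,
        show (g⁻¹ * z * g) * (g⁻¹ * z * g) = g⁻¹ * (z * z) * g by group, mul_self_eq_one hz,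
        mul_one, inv_mul_cancel]
    · have e : (⟨_, hm⟩ : ↥(S : Subgroup G)) = 1 := Subtype.ext (by
        show g⁻¹ * x ^ L * g = 1
        rw [hLj, show (2 : ℕ) ^ 2 = 4 from rfl, hx4, mul_one, inv_mul_cancel])
      rw [e, map_one]
  rw [Finset.prod_eq_single q₀ (fun q _ hq => ?_) (fun hn => absurd (Finset.mem_univ _) hn)] at h
  · obtain ⟨s, hs⟩ := QuotientGroup.mk_out_eq_mul (S : Subgroup G) 1
    have hm1 : Function.minimalPeriod (x • ·) q₀.out = 1 := by
      rw [Function.minimalPeriod_eq_one_iff_isFixedPt, hout]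
      exact hfixed
    have e : q₀.out.out⁻¹ * x ^ Function.minimalPeriod (x • ·) q₀.out * q₀.out.out =
        (s : G)⁻¹ * x * s := by
      rw [hm1, hout, hs, pow_one, one_mul]
    rw [show (⟨q₀.out.out⁻¹ * x ^ Function.minimalPeriod (x • ·) q₀.out * q₀.out.out,
        QuotientGroup.out_conj_pow_minimalPeriod_mem (S : Subgroup G) x q₀.out⟩ :
        ↥(S : Subgroup G)) = s⁻¹ * ⟨x, hxS⟩ * s from Subtype.ext e, map_mul, map_mul, map_inv,
      mul_comm (φ s)⁻¹, inv_mul_cancel_right] at h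
    exact hφx h
  · have hgS : q.out.out ∉ (S : Subgroup G) := by
      intro hm
      refine hq ?_
      rw [hq₀, ← Quotient.out_eq q]
      refine congrArg Quotient.mk'' ?_
      rw [← QuotientGroup.out_eq' q.out, QuotientGroup.eq, mul_one]
      exact inv_mem hm
    have key := hval q.out.out
    rw [QuotientGroup.out_eq'] at key
    exact key _ hgS

theorem hom_trivial [IsSimpleGroup G] (hna : ¬ IsMulCommutative G) {A : Type*} [CommGroup A]
    (f : G →* A) : f = 1 := by
  rcases (inferInstance : f.ker.Normal).eq_bot_or_eq_top with h | h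
  · exfalso
    rw [MonoidHom.ker_eq_bot_iff] at h
    exact hna ⟨⟨fun a b => h (by rw [map_mul, map_mul, mul_comm])⟩⟩
  · exact MonoidHom.ext fun g => MonoidHom.mem_ker.mp (h ▸ mem_top g)

/-- In a simple group of even order the Sylow 2-subgroups have a second involution. -/
theorem exists_second [IsSimpleGroup G] (hna : ¬ IsMulCommutative G) (S : Sylow 2 G) {z : G}
    (hz : orderOf z = 2) (hzS : z ∈ (S : Subgroup G)) :
    ∃ u ∈ (S : Subgroup G), orderOf u = 2 ∧ u ≠ z := by
  by_contra hcon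
  push Not at hcon
  haveI : (Cfsg.oddCore G).Characteristic := Cores.pPrimeCore_characteristic
  have hZ := Cores.glaubermanZStar S hz hzS fun g hg =>
    hcon _ hg (by rw [orderOf_conj', hz])
  rcases (inferInstance : (Cfsg.oddCore G).Normal).eq_bot_or_eq_top with h | h
  · rw [h] at hZ
    have hzc : z ∈ Subgroup.center G := by
      refine Subgroup.mem_center_iff.mpr fun g => ?_
      have h1 : z * g * z⁻¹ * g⁻¹ = 1 := Subgroup.mem_bot.mp (hZ g)
      rw [mul_inv_eq_one, mul_inv_eq_iff_eq_mul] at h1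
      exact h1.symm
    rcases (inferInstance : (Subgroup.center G).Normal).eq_bot_or_eq_top with h' | h'
    · rw [h', Subgroup.mem_bot] at hzc
      exact ne_one_of_orderOf hz hzc
    · exact hna ⟨⟨fun a b => Subgroup.mem_center_iff.mp (h' ▸ mem_top b) a⟩⟩
  · have hodd := Cores.odd_card_oddCore (G := G)
    rw [h, Subgroup.card_top] at hodd
    exact Nat.not_even_iff_odd.mpr hodd (even_iff_two_dvd.mpr (hz ▸ orderOf_dvd_natCard z))

/-- A Sylow 2-subgroup with a self-centralising four group, in a simple group, is dihedral. -/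
theorem exists_dihedral_of [IsSimpleGroup G] (hna : ¬ IsMulCommutative G) (S : Sylow 2 G) {n : ℕ}
    (hn : Nat.card ↥(S : Subgroup G) = 2 ^ n) (z₀ u₀ : ↥(S : Subgroup G))
    (hzc : z₀ ∈ Subgroup.center ↥(S : Subgroup G)) (hz₀ : orderOf z₀ = 2) (huo : orderOf u₀ = 2)
    (hne₀ : u₀ ≠ z₀)
    (hpair : ∀ c : ↥(S : Subgroup G), Commute c u₀ → c = 1 ∨ c = z₀ ∨ c = u₀ ∨ c = u₀ * z₀)
    (cent : ∀ c : ↥(S : Subgroup G), orderOf c = 2 ^ (n - 1) → z₀ ∈ zpowers c →
      Subgroup.centralizer ({(z₀ : G)} : Set G) = (S : Subgroup G)) :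
    ∃ (S : Sylow 2 G) (n a : ℕ) (z : G), 2 ≤ n ∧ n = 2 ^ a ∧
      Nonempty ((S : Subgroup G) ≃* DihedralGroup n) ∧ orderOf z = 2 ∧ z ∈ (S : Subgroup G) ∧
      Subgroup.centralizer ({z} : Set G) = (S : Subgroup G) := by
  classical
  haveI : Fact (Nat.Prime 2) := ⟨Nat.prime_two⟩
  have hz : orderOf (z₀ : G) = 2 := by rw [Subgroup.orderOf_coe, hz₀]
  have hz₀2 : z₀ ^ 2 = 1 := orderOf_dvd_iff_pow_eq_one.mp (dvd_of_eq hz₀)
  have hu₀2 : u₀ ^ 2 = 1 := orderOf_dvd_iff_pow_eq_one.mp (dvd_of_eq huo)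
  have hn1 : 1 ≤ n := by
    rcases Nat.eq_zero_or_pos n with rfl | h
    · have h1 := Subgroup.orderOf_dvd_natCard (S : Subgroup G) z₀.2
      rw [hz, hn] at h1
      exact absurd (Nat.le_of_dvd (by norm_num) h1) (by norm_num)
    · exact h
  have huz : Commute u₀ z₀ := mem_center_iff.mp hzc u₀
  haveI := PGroups.normal_of_le_center (zpowers_le.mpr hzc)
  have hnot : u₀ ∉ zpowers z₀ := fun h => hne₀ (PGroups.eq_of_sq_eq_one
    (inferInstance : IsCyclic (zpowers z₀)) h (mem_zpowers z₀) hu₀2 hz₀2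
    (ne_one_of_orderOf huo) (ne_one_of_orderOf hz₀))
  set E := zpowers z₀ ⊔ zpowers u₀ with hE
  have hEc : Nat.card ↥E = 2 ^ 2 := by
    rw [hE, PGroups.card_sup_zpowers (p := 2) _ hnot (hu₀2 ▸ one_mem _), Nat.card_zpowers, hz₀]
    norm_num
  have hCE : Subgroup.centralizer (E : Set ↥(S : Subgroup G)) = E := by
    refine le_antisymm (fun c hc => ?_) fun e he => mem_centralizer_iff.mpr fun f hf =>
      PGroups.comm_of_isMulCommutative (IsPGroup.isMulCommutative_of_card_eq_prime_sq hEc) hf he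
    rcases hpair c (mem_centralizer_iff.mp hc u₀ (mem_sup_right (mem_zpowers u₀))).symm with h | h | h | h
    · rw [h]; exact one_mem _
    · rw [h]; exact mem_sup_left (mem_zpowers z₀)
    · rw [h]; exact mem_sup_right (mem_zpowers u₀)
    · rw [h]; exact mul_mem (mem_sup_right (mem_zpowers u₀)) (mem_sup_left (mem_zpowers z₀))
  have hn2 : 2 ≤ n := (Nat.pow_dvd_pow_iff_le_right one_lt_two).mp
    (hEc ▸ hn ▸ E.card_subgroup_dvd_card)
  rcases eq_or_lt_of_le hn2 with rfl | hn3
  · refine ⟨S, 2, 1, z₀, le_rfl, rfl, PGroups.nonempty_mulEquiv_dihedral hz₀ hnot hu₀2 ?_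
      (by rw [hn]; norm_num), hz, z₀.2, cent z₀ (by rw [hz₀]; rfl) (mem_zpowers z₀)⟩
    rw [huz.eq, mul_inv_cancel_right]
    exact (inv_eq_of_mul_eq_one_right (by rw [← pow_two]; exact hz₀2)).symm
  have hcl := PGroups.nilpotencyClass_of_self_centralizing (p := 2) n _ hn E hEc hCE
  obtain ⟨c, y, hc, hy, hcase, -⟩ := PGroups.maxClass_two hn3 hn hcl
  set t₀ : ↥(S : Subgroup G) := c ^ 2 ^ (n - 2) with ht₀
  have ht2 : t₀ ^ 2 = 1 := by
    rw [ht₀, ← pow_mul, ← pow_succ, show n - 2 + 1 = n - 1 by omega, ← hc, pow_orderOf_eq_one]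
  have ht1 : t₀ ≠ 1 := fun h => by
    have h1 := orderOf_dvd_of_pow_eq_one h
    rw [hc, Nat.pow_dvd_pow_iff_le_right one_lt_two] at h1
    omega
  have hidx : (zpowers c).index = 2 := by
    have e := (zpowers c).card_mul_index
    rw [Nat.card_zpowers, hc, hn, show n = n - 1 + 1 by omega, pow_succ, Nat.add_sub_cancel] at e
    exact Nat.eq_of_mul_eq_mul_left (by positivity) e
  haveI := PGroups.normal_of_index_eq S.2 hidx
  have huniq : ∀ g ∈ zpowers c, g ^ 2 = 1 → g ≠ 1 → g = t₀ := fun g hg h2 h1 =>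
    PGroups.eq_of_sq_eq_one (inferInstance : IsCyclic (zpowers c)) hg (pow_mem (mem_zpowers c) _)
      h2 ht2 h1 ht1
  have htz : t₀ = z₀ := by
    obtain ⟨hZ, -, -⟩ := PGroups.card_center_of_maxClass (p := 2) hn3 hn hcl
    have htc : t₀ ∈ center ↥(S : Subgroup G) := mem_center_iff.mpr fun g => by
      have h1 : g * t₀ * g⁻¹ = t₀ := huniq _
        ((inferInstance : (zpowers c).Normal).conj_mem _ (pow_mem (mem_zpowers c) _) g)
        (by rw [conj_pow, ht2, mul_one, mul_inv_cancel]) fun h => ht1 (conj_eq_one_iff.mp h)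
      exact mul_inv_eq_iff_eq_mul.mp h1
    have hle : zpowers z₀ = center ↥(S : Subgroup G) :=
      Subgroup.eq_of_le_of_card_ge (zpowers_le.mpr hzc) (by rw [hZ, Nat.card_zpowers, hz₀])
    exact PGroups.eq_of_sq_eq_one (inferInstance : IsCyclic (zpowers z₀)) (hle ▸ htc)
      (mem_zpowers z₀) ht2 hz₀2 ht1 (ne_one_of_orderOf hz₀)
  have hC := cent c hc (htz ▸ pow_mem (mem_zpowers c) _)
  have hsq : ∀ g : ↥(S : Subgroup G), g * g ∈ zpowers c := fun g =>
    (Subgroup.mul_mem_iff_of_index_two hidx).mpr Iff.rfl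
  rcases hcase with ⟨h1, h2 | h2⟩ | ⟨h4, h1, h2⟩
  · haveI : NeZero (2 ^ (n - 1)) := ⟨by positivity⟩
    exact ⟨S, 2 ^ (n - 1), n - 1, z₀, Nat.le_self_pow (by omega) 2, rfl,
      PGroups.nonempty_mulEquiv_dihedral hc hy h2 h1
        (by rw [hn, ← pow_succ', Nat.sub_add_cancel hn1]), hz, z₀.2, hC⟩
  · -- a quaternion group has one involution
    exfalso
    have key : ∀ g : ↥(S : Subgroup G), g ∉ zpowers c → g ^ 2 = t₀ := by
      intro g hg
      have hm : y⁻¹ * g ∈ zpowers c :=
        (Subgroup.mul_mem_iff_of_index_two hidx).mpr (by simp [hy, hg])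
      obtain ⟨i, hi⟩ := mem_zpowers_iff.mp hm
      rw [show g = y * c ^ i by rw [hi, mul_inv_cancel_left], pow_two,
        show y * c ^ i * (y * c ^ i) = (y * c ^ i * y⁻¹) * (y ^ 2 * c ^ i) by
          rw [pow_two]; group, ← conj_zpow, h1, h2, ht₀]
      group
    by_cases hum : u₀ ∈ zpowers c
    · exact hne₀ ((huniq u₀ hum hu₀2 (ne_one_of_orderOf huo)).trans htz)
    · exact ht1 ((key u₀ hum).symm.trans hu₀2)
  · -- the semidihedral case
    exfalso
    have hKne : zpowers (c ^ 2) ⊔ zpowers y ≠ ⊤ := by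
      intro htop
      haveI : (zpowers (c ^ 2)).Normal := by
        refine ⟨fun g hg s => ?_⟩
        obtain ⟨i, rfl⟩ := mem_zpowers_iff.mp hg
        obtain ⟨j, hj⟩ := mem_zpowers_iff.mp
          ((inferInstance : (zpowers c).Normal).conj_mem c (mem_zpowers c) s)
        refine mem_zpowers_iff.mpr ⟨j * i, ?_⟩
        rw [← conj_zpow, ← conj_pow, ← hj]
        simp only [← zpow_natCast, ← zpow_mul]
        congr 1
        push_cast
        ring
      obtain ⟨a, ha, b, hb, hab⟩ := mem_sup_of_normal_left.mp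
        (htop ▸ mem_top c : c ∈ zpowers (c ^ 2) ⊔ zpowers y)
      obtain ⟨i, rfl⟩ := mem_zpowers_iff.mp ha
      have hb' : b ∈ zpowers c := by
        rw [show b = ((c ^ 2) ^ i)⁻¹ * c from eq_inv_mul_of_mul_eq hab]
        exact mul_mem (inv_mem (zpow_mem (pow_mem (mem_zpowers c) 2) i)) (mem_zpowers c)
      obtain ⟨j, rfl⟩ := mem_zpowers_iff.mp hb
      have hy1 : y ^ j = 1 := by
        rcases Int.even_or_odd j with ⟨l, rfl⟩ | ⟨l, rfl⟩
        · rw [← two_mul, zpow_mul, show (2 : ℤ) = ((2 : ℕ) : ℤ) from rfl, zpow_natCast, h2,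
            one_zpow]
        · rw [zpow_add, zpow_mul, show (2 : ℤ) = ((2 : ℕ) : ℤ) from rfl, zpow_natCast, h2,
            one_zpow, one_mul, zpow_one] at hb'
          exact absurd hb' hy
      rw [hy1, mul_one, ← zpow_natCast c 2, ← zpow_mul] at hab
      have h3 : c ^ (((2 : ℕ) : ℤ) * i) = c ^ (1 : ℤ) := by rw [hab, zpow_one]
      rw [PGroups.zpow_eq_zpow_iff_dvd hc] at h3
      have h4' : (2 : ℤ) ∣ ((2 ^ (n - 1) : ℕ) : ℤ) := by
        push_cast
        exact dvd_pow_self 2 (by omega)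
      have h5 := h4'.trans h3
      omega
    obtain ⟨K, hK, hKle⟩ := (eq_top_or_exists_le_coatom _).resolve_left hKne
    haveI := PGroups.normal_of_isCoatom S.2 hK
    have hKi : K.index = 2 := PGroups.index_eq_of_isCoatom S.2 hK
    have hcK : c ∉ K := fun h => hK.1 (top_le_iff.mp fun g _ => by
      by_cases hg : g ∈ zpowers c
      · exact zpowers_le.mpr h hg
      · have hm : y⁻¹ * g ∈ zpowers c :=
          (Subgroup.mul_mem_iff_of_index_two hidx).mpr (by simp [hy, hg])
        have := mul_mem (hKle (mem_sup_right (mem_zpowers y))) (zpowers_le.mpr h hm)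
        rwa [mul_inv_cancel_left] at this)
    have hyK : y ∈ K := hKle (mem_sup_right (mem_zpowers y))
    have hxK : y * c ∉ K := fun h => hcK ((K.mul_mem_cancel_left hyK).mp h)
    haveI : IsMulCommutative (↥(S : Subgroup G) ⧸ K) := by
      haveI : Fact (Nat.Prime 2) := ⟨Nat.prime_two⟩
      haveI := isCyclic_of_prime_card (α := ↥(S : Subgroup G) ⧸ K) (p := 2)
        (by rw [← Subgroup.index_eq_card, hKi])
      infer_instance
    let e : (↥(S : Subgroup G) ⧸ K) ≃* Multiplicative (ZMod 2) :=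
      mulEquivOfPrimeCardEq (p := 2) (by rw [← Subgroup.index_eq_card, hKi])
        (by rw [Nat.card_congr Multiplicative.toAdd, Nat.card_zmod])
    set φ := e.toMonoidHom.comp (QuotientGroup.mk' K) with hφ
    have hφ1 : ∀ g, φ g = 1 ↔ g ∈ K := fun g => by
      simp [hφ, QuotientGroup.eq_one_iff]
    have hcc : (y * c) * (y * c) = z₀ := by
      rw [← htz, ht₀, show y * c * (y * c) = (y * c * y⁻¹) * (y ^ 2 * c) by rw [pow_two]; group,
        h1, h2, one_mul, ← pow_succ, Nat.sub_add_cancel Nat.one_le_two_pow]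
    refine no_element_outside S hC φ (y * c).2 (congrArg Subtype.val hcc) hz
      (fun h => hxK ((hφ1 _).mp h)) (fun g hg ho => ?_) (fun g hg => (hφ1 g).mpr ?_)
      (hom_trivial hna)
    · have h3 : orderOf ((⟨g, hg⟩ : ↥(S : Subgroup G)) * ⟨g, hg⟩) = 2 := by
        rw [← Subgroup.orderOf_coe]; exact ho
      exact congrArg Subtype.val ((huniq _ (hsq _) (orderOf_dvd_iff_pow_eq_one.mp (dvd_of_eq h3))
        (ne_one_of_orderOf h3)).trans htz)
    · by_cases hg1 : g = 1
      · rw [hg1]; exact one_mem _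
      by_cases hgc : g ∈ zpowers c
      · rw [huniq g hgc (by rw [pow_two]; exact hg) hg1, ht₀]
        obtain ⟨l, hl⟩ : ∃ l, 2 ^ (n - 2) = 2 * l := ⟨2 ^ (n - 3), by
          rw [← pow_succ', show n - 3 + 1 = n - 2 by omega]⟩
        rw [hl, pow_mul]
        exact pow_mem (hKle (mem_sup_left (mem_zpowers _))) l
      · have hm : y⁻¹ * g ∈ zpowers c :=
          (Subgroup.mul_mem_iff_of_index_two hidx).mpr (by simp [hy, hgc])
        obtain ⟨i, hi⟩ := mem_zpowers_iff.mp hm
        have hgi : g = y * c ^ i := by rw [hi, mul_inv_cancel_left]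
        rw [hgi] at hg ⊢
        refine mul_mem hyK ?_
        have h3 : c ^ (((2 ^ (n - 2) : ℕ) : ℤ) * i) = 1 := by
          rw [← hg, show y * c ^ i * (y * c ^ i) = (y * c ^ i * y⁻¹) * (y ^ 2 * c ^ i) by
            rw [pow_two]; group, ← conj_zpow, h1, h2, one_mul, ← zpow_natCast c, ← zpow_mul,
            ← zpow_add]
          congr 1
          push_cast [Nat.cast_sub Nat.one_le_two_pow]
          ring
        rw [PGroups.zpow_eq_one_iff_dvd hc, show n - 1 = n - 2 + 1 by omega, pow_succ,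
          Nat.cast_mul] at h3
        obtain ⟨l, hl⟩ : ((2 : ℕ) : ℤ) ∣ i :=
          (mul_dvd_mul_iff_left (by positivity)).mp h3
        rw [hl, zpow_mul, zpow_natCast]
        exact zpow_mem (hKle (mem_sup_left (mem_zpowers _))) l

/-- The Sylow 2-subgroup is dihedral and the centraliser of its centre is itself. -/
theorem P.exists_dihedral [IsSimpleGroup G] (hP : P G) (hna : ¬ IsMulCommutative G)
    (heven : Even (Nat.card G)) :
    ∃ (S : Sylow 2 G) (n a : ℕ) (z : G), 2 ≤ n ∧ n = 2 ^ a ∧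
      Nonempty ((S : Subgroup G) ≃* DihedralGroup n) ∧ orderOf z = 2 ∧ z ∈ (S : Subgroup G) ∧
      Subgroup.centralizer ({z} : Set G) = (S : Subgroup G) := by
  classical
  haveI : Fact (Nat.Prime 2) := ⟨Nat.prime_two⟩
  obtain ⟨S⟩ : Nonempty (Sylow 2 G) := inferInstance
  obtain ⟨n, hn⟩ := IsPGroup.iff_card.mp S.2
  have hn1 : 1 ≤ n := by
    rcases Nat.eq_zero_or_pos n with rfl | h
    · have h2 := S.not_dvd_index
      have h3 := (S : Subgroup G).card_mul_index
      rw [hn, pow_zero, one_mul] at h3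
      exact absurd (h3 ▸ even_iff_two_dvd.mp heven) h2
    · exact h
  haveI : Nontrivial ↥(S : Subgroup G) := Finite.one_lt_card_iff_nontrivial.mp
    (hn ▸ Nat.one_lt_pow (by omega) one_lt_two)
  obtain ⟨z₀, -, hzc, hz₀⟩ := PGroups.exists_mem_center_orderOf_eq S.2
    (⊤ : Subgroup ↥(S : Subgroup G)) top_ne_bot
  have hz : orderOf (z₀ : G) = 2 := by rw [Subgroup.orderOf_coe, hz₀]
  have hSC : (S : Subgroup G) ≤ Subgroup.centralizer ({(z₀ : G)} : Set G) := fun s hs =>
    mem_centralizer_singleton_iff.mpr (congrArg Subtype.val (mem_center_iff.mp hzc ⟨s, hs⟩))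
  obtain ⟨u, huS, hu, hne⟩ := exists_second hna S hz z₀.2
  refine exists_dihedral_of hna S hn z₀ ⟨u, huS⟩ hzc hz₀
    (by rw [← Subgroup.orderOf_coe]; exact hu) (fun h => hne (congrArg Subtype.val h))
    (fun c hc => ?_) fun c hc hzc' => ?_
  · have h1 : Commute (c : G) z₀ := mem_centralizer_singleton_iff.mp (hSC c.2)
    rcases hP.eq_of_commute_pair hz hu hne
        (congrArg Subtype.val (mem_center_iff.mp hzc (⟨u, huS⟩ : ↥(S : Subgroup G)))) h1
        (congrArg Subtype.val hc.eq) with h | h | h | h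
    · exact Or.inl (Subtype.ext h)
    · exact Or.inr (Or.inl (Subtype.ext h))
    · exact Or.inr (Or.inr (Or.inl (Subtype.ext h)))
    · exact Or.inr (Or.inr (Or.inr (Subtype.ext h)))
  · refine hP.centralizer_eq S ((zpowers c).map (S : Subgroup G).subtype) (map_subtype_le _) ?_ ?_
      hz hu hne (mem_map_of_mem _ hzc') huS hSC
    · rw [Subgroup.card_map_of_injective (Subgroup.subtype_injective _), Nat.card_zpowers, hc, hn,
        ← pow_succ, Nat.sub_add_cancel hn1]
    · exact isCyclic_of_surjective _ (((S : Subgroup G).subtype).subgroupMap_surjective (zpowers c))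

end Cfsg.Agent.H65.SelfCent
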